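import Groth.Agent.TwistGlue.Torsor
import Mathlib.AlgebraicGeometry.Sites.Fpqc

/-!
Factorisation of points over `R'_f` when all torsors with a generic point have a section.
-/

set_option autoImplicit false
set_option linter.style.haveILetI false
set_option linter.unusedSectionVars false
set_option synthInstance.maxHeartbeats 400000
set_option maxHeartbeats 1000000

universe u

open CategoryTheory Limits MonoidalCategory CartesianMonoidalCategory AlgebraicGeometry
open scoped TensorProduct MonObj

noncomputable section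

namespace Groth.Agent.TwistGlue

variable {R : Type u} [CommRing R] (R' : Type u) [CommRing R'] [Algebra R R'] (f : R)

theorem isGlueingPair_of_flat [Module.Flat R R'] (hf : f ∈ nonZeroDivisors R) (hq : EtGlue.QuotPowBijective R R' f) :
    EtGlue.IsGlueingPair R R' f := by
  refine (EtGlueLib.isGlueingPair_iff hq).2 ⟨?_, ?_⟩
  · rintro x ⟨n, hn⟩ -
    exact (mul_left_mem_nonZeroDivisors_eq_zero_iff (pow_mem hf n)).1 hn
  · rintro x' ⟨n, hn⟩
    have hi : Function.Injective (LinearMap.mulLeft R (f ^ n)) := fun a b e =>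
      (mul_cancel_left_mem_nonZeroDivisors (pow_mem hf n)).1 e
    have hinj := Module.Flat.rTensor_preserves_injective_linearMap (M := R') _ hi
    refine ⟨0, ⟨0, mul_zero _⟩, ?_⟩
    have : (LinearMap.mulLeft R (f ^ n)).rTensor R' ((1 : R) ⊗ₜ[R] x') = (LinearMap.mulLeft R (f ^ n)).rTensor R' 0 := by
      apply (TensorProduct.lid R R').injective
      simp [Algebra.smul_def, hn]
    rw [map_zero]
    simpa using (congrArg (TensorProduct.lid R R') (hinj this)).symm

variable {R'} {f}

theorem exists_to_residueField (hq : EtGlue.QuotPowBijective R R' f) (p : Ideal R) [p.IsPrime] (hp : f ∈ p) :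
    Nonempty (R' →ₐ[R] p.ResidueField) := by
  let q := Ideal.quotientMap (Ideal.map (algebraMap R R') (Ideal.span {f ^ 1})) (algebraMap R R') Ideal.le_comap_map
  let e : R ⧸ Ideal.span {f ^ 1} ≃+* R' ⧸ Ideal.map (algebraMap R R') (Ideal.span {f ^ 1}) :=
    RingEquiv.ofBijective q (hq 1 Nat.one_pos)
  let ψ : R ⧸ Ideal.span {f ^ 1} →+* p.ResidueField := Ideal.Quotient.lift _ (algebraMap R p.ResidueField) fun a ha => by
    obtain ⟨c, rfl⟩ := Ideal.mem_span_singleton'.1 ha
    exact Ideal.algebraMap_residueField_eq_zero.2 (p.mul_mem_left c (by simpa using hp))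
  refine ⟨{ ψ.comp (e.symm.toRingHom.comp (Ideal.Quotient.mk _)) with commutes' := fun r => ?_ }⟩
  show ψ (e.symm (Ideal.Quotient.mk _ (algebraMap R R' r))) = _
  rw [show Ideal.Quotient.mk (Ideal.map (algebraMap R R') (Ideal.span {f ^ 1})) (algebraMap R R' r) =
    e (Ideal.Quotient.mk _ r) from rfl, RingEquiv.symm_apply_apply]
  rfl

variable {O B : Type u} [CommRing O] [Algebra R O] [CommRing B] [Algebra R B]

theorem exists_locEquiv (e₁ : Localization.Away (algebraMap R B f) ≃ₐ[R] Localization.Away f ⊗[R] O) :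
    Nonempty (Localization.Away f ⊗[R] B ≃ₐ[Localization.Away f] Localization.Away f ⊗[R] O) := by
  let β : B →ₐ[R] Localization.Away f ⊗[R] B := Algebra.TensorProduct.includeRight
  let il : Localization.Away f →ₐ[R] Localization.Away f ⊗[R] B := Algebra.TensorProduct.includeLeft
  let G : Localization.Away (algebraMap R B f) →ₐ[R] Localization.Away f ⊗[R] B :=
    bLift il β
  let loc : B →ₐ[R] Localization.Away (algebraMap R B f) := IsScalarTower.toAlgHom R B _
  have hu : IsUnit (algebraMap R (Localization.Away (algebraMap R B f)) f) := by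
    rw [IsScalarTower.algebraMap_apply R B (Localization.Away (algebraMap R B f))]
    exact IsLocalization.Away.algebraMap_isUnit _
  let F : Localization.Away f ⊗[R] B →ₐ[R] Localization.Away (algebraMap R B f) :=
    Algebra.TensorProduct.lift (locMap hu) loc fun _ _ => Commute.all _ _
  have hG : G.comp loc = β := AlgHom.ext fun x => bLift_algebraMap il β x
  have hGF : G.comp F = AlgHom.id R _ := ext_tensor (loc_unique _ _) (by
    rw [AlgHom.comp_assoc, lift_right, hG]; rfl)
  have hFG : F.comp G = AlgHom.id R _ :=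
    AlgHom.coe_ringHom_injective (IsLocalization.ringHom_ext (Submonoid.powers (algebraMap R B f))
      (RingHom.ext fun x => by
        show F (G (algebraMap B _ x)) = algebraMap B _ x
        rw [show G (algebraMap B _ x) = β x from bLift_algebraMap il β x]
        exact (AlgHom.congr_fun (lift_right (locMap hu) loc) x)))
  let e := (AlgEquiv.ofAlgHom F G hFG hGF).trans e₁
  refine ⟨{ e.toRingEquiv with commutes' := fun x => ?_ }⟩
  exact AlgHom.congr_fun (loc_unique (e.toAlgHom.comp Algebra.TensorProduct.includeLeft)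
    (Algebra.TensorProduct.includeLeft : Localization.Away f →ₐ[R] Localization.Away f ⊗[R] O)) x

/-- Every point over `R'_f` is a product of points over `R'` and over `R_f`. -/
theorem exists_factor [IsDomain R] (K : Type u) [Field K] [Algebra R K] (hK : IsUnit (algebraMap R K f))
    (hf : f ∈ nonZeroDivisors R) [Module.Flat R R'] (hq : EtGlue.QuotPowBijective R R' f)
    (G : Over (Spec (CommRingCat.of R))) [GrpObj G] [IsAffine G.left] [Smooth G.hom]
    (hGS : ∀ (X : Over (Spec (CommRingCat.of R))) (a : AlgGrp.Action G X),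
      NonAbH1.IsTorsorFor Scheme.fppfPrecoverage a →
      NonAbH1.HasSectionOver X (Spec.map (CommRingCat.ofHom (algebraMap R K))) →
      NonAbH1.HasSectionOver X (𝟙 (Spec (CommRingCat.of R))))
    (g : T R (L R' f) ⟶ G) (c₁ : Localization.Away f →ₐ[R] L R' f) :
    ∃ (x : T R R' ⟶ G) (y : T R (Localization.Away f) ⟶ G),
      g = (hom (IsScalarTower.toAlgHom R R' (L R' f)) ≫ x) * (hom c₁ ≫ y) := by
  obtain ⟨O, iO, aO, ⟨eG⟩⟩ := exists_alg G
  haveI : IsIso eG.hom.left := inferInstanceAs (IsIso ((Over.forget _).map eG.hom))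
  have hO : Smooth (Spec.map (CommRingCat.ofHom (algebraMap R O))) := by
    rw [show Spec.map (CommRingCat.ofHom (algebraMap R O)) = eG.hom.left ≫ G.hom from (Over.w eG.hom).symm]
    exact (MorphismProperty.cancel_left_of_respectsIso @Smooth eG.hom.left G.hom).2 inferInstance
  haveI : Module.Flat R O := RingHom.flat_algebraMap_iff.1
    ((HasRingHomProperty.Spec_iff (P := @Flat)).1 (inferInstance : Flat (Spec.map (CommRingCat.ofHom (algebraMap R O)))))
  haveI : Algebra.FinitePresentation R O := RingHom.finitePresentation_algebraMap.1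
    ((HasRingHomProperty.Spec_iff (P := @LocallyOfFinitePresentation)).1
      (inferInstance : LocallyOfFinitePresentation (Spec.map (CommRingCat.ofHom (algebraMap R O)))))
  have hRR := isGlueingPair_of_flat R' f hf hq
  obtain ⟨B, iB, aB, hB, e₁, e', hc⟩ := exists_twist G eG g⁻¹ hRR
  haveI : Module.Flat R' (R' ⊗[R] B) := Module.Flat.of_linearEquiv e'.toLinearEquiv
  haveI : Algebra.FinitePresentation R' (R' ⊗[R] B) := Algebra.FinitePresentation.equiv e'.symm
  obtain ⟨el⟩ := exists_locEquiv e₁
  haveI : Module.Flat (Localization.Away f) (Localization.Away f ⊗[R] B) := Module.Flat.of_linearEquiv el.toLinearEquiv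
  haveI : Algebra.FinitePresentation (Localization.Away f) (Localization.Away f ⊗[R] B) :=
    Algebra.FinitePresentation.equiv el.symm
  haveI : Module.Flat R B := EtGlueLib.flat_alg hRR B
  haveI : Algebra.FinitePresentation R B := EtGlueLib.finitePresentation_alg hRR B
  obtain ⟨a, ha⟩ := exists_action G eG g⁻¹ hc hf hq
  haveI : Flat (T R B).hom := (HasRingHomProperty.Spec_iff (P := @Flat)).2
    (RingHom.flat_algebraMap_iff.2 inferInstance)
  haveI : LocallyOfFinitePresentation (T R B).hom := (HasRingHomProperty.Spec_iff (P := @LocallyOfFinitePresentation)).2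
    (RingHom.finitePresentation_algebraMap.2 inferInstance)
  have hp : ∀ p : PrimeSpectrum R, ∃ β : B →ₐ[R] p.asIdeal.ResidueField, True := fun p => by
    by_cases hfp : f ∈ p.asIdeal
    · obtain ⟨c⟩ := exists_to_residueField hq p.asIdeal hfp
      obtain ⟨β, -⟩ := exists_aco G eG e' c 1
      exact ⟨β, trivial⟩
    · have hu : IsUnit (algebraMap R p.asIdeal.ResidueField f) :=
        isUnit_iff_ne_zero.2 fun h => hfp (Ideal.algebraMap_residueField_eq_zero.1 h)
      obtain ⟨β, -⟩ := exists_bco G eG e₁ (locMap hu) 1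
      exact ⟨β, trivial⟩
  haveI : Surjective (T R B).hom := ⟨fun p => by
    obtain ⟨β, -⟩ := hp p
    refine ⟨(⟨RingHom.ker β.toRingHom, RingHom.ker_isPrime _⟩ : PrimeSpectrum B), ?_⟩
    refine PrimeSpectrum.ext (Ideal.ext fun x => ?_)
    show β (algebraMap R B x) = 0 ↔ _
    rw [β.commutes]
    exact Ideal.algebraMap_residueField_eq_zero⟩
  have htors : NonAbH1.IsTorsorFor Scheme.fppfPrecoverage a := by
    refine ⟨isPseudoTorsor_action G eG g⁻¹ hc hf hq a ha fun C _ _ _ h β β' e => cA_of_cB G eG g⁻¹ hc hf hq h β β' e,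
      _, (T R B).hom.singleton_mem_fppfPrecoverage, ?_⟩
    intro S' q hq'
    obtain ⟨⟩ := hq'
    exact ⟨𝟙 _, Category.id_comp _⟩
  obtain ⟨βK, -⟩ := exists_bco G eG e₁ (locMap hK) 1
  obtain ⟨s, hs⟩ := hGS (T R B) a htors ⟨(hom βK).left, Over.w (hom βK)⟩
  obtain ⟨β, -⟩ := exists_hom (Over.homMk s (by
    refine hs.trans ?_
    show 𝟙 _ = Spec.map (CommRingCat.ofHom (algebraMap R R))
    rw [Algebra.algebraMap_self]
    exact (Spec.map_id _).symm) : T R R ⟶ T R B)
  let cR : R' →ₐ[R] L R' f := IsScalarTower.toAlgHom R R' (L R' f)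
  let A := aco G eG e' (AlgHom.id R R') ((Algebra.ofId R R').comp β)
  let Bf := bco G eG e₁ (AlgHom.id R (Localization.Away f)) ((Algebra.ofId R (Localization.Away f)).comp β)
  refine ⟨A⁻¹, Bf, ?_⟩
  have hrel := hc (L R' f) cR c₁ ((Algebra.ofId R (L R' f)).comp β)
  have hA : hom cR ≫ A = aco G eG e' cR ((Algebra.ofId R (L R' f)).comp β) := by
    rw [comp_aco]; congr 1
  have hBf : hom c₁ ≫ Bf = bco G eG e₁ c₁ ((Algebra.ofId R (L R' f)).comp β) := by
    rw [comp_bco]; congr 1; exact AlgHom.ext fun x => c₁.commutes (β x)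
  have hl : lL cR (isUnit_map c₁) = AlgHom.id R (L R' f) :=
    AlgHom.coe_ringHom_injective (IsLocalization.ringHom_ext (Submonoid.powers (algebraMap R R' f))
      (RingHom.ext fun x => lL_algebraMap cR (isUnit_map c₁) x))
  show g = (hom cR ≫ A⁻¹) * (hom c₁ ≫ Bf)
  rw [GrpObj.comp_inv, hA, hBf, hrel, tw, hl, hom_id, Category.id_comp, mul_inv_rev, inv_inv, inv_mul_cancel_right]

end Groth.Agent.TwistGlue
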