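import Groth.Agent.SekTorsor.Pts
import Groth.Agent.EtGlueLib.Basic
import Mathlib

/-!
Affine schemes over an affine base through algebra maps; gluing algebra maps along `C → (R' ⊗ C) × C_f`.
-/

set_option autoImplicit false
set_option linter.style.haveILetI false
set_option synthInstance.maxHeartbeats 400000
set_option maxHeartbeats 800000

universe u

open CategoryTheory Limits MonoidalCategory CartesianMonoidalCategory AlgebraicGeometry
open scoped TensorProduct MonObj

noncomputable section

namespace Groth.Agent.TwistGlue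

open Groth.Agent.SekTorsor (fn fn_SpecMap fn_toSpecΓ fn_ext)

section Spec

variable {R : Type u} [CommRing R]

/-- An affine scheme over the base. -/
abbrev T (R : Type u) [CommRing R] (C : Type u) [CommRing C] [Algebra R C] : Over (Spec (CommRingCat.of R)) :=
  (Spec (CommRingCat.of C)).asOver (Spec (CommRingCat.of R))

variable {C D E : Type u} [CommRing C] [Algebra R C] [CommRing D] [Algebra R D] [CommRing E] [Algebra R E]

/-- The morphism of an algebra map. -/
def hom (h : C →ₐ[R] D) : T R D ⟶ T R C :=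
  Over.homMk (Spec.map (CommRingCat.ofHom h.toRingHom)) (by
    show Spec.map _ ≫ Spec.map (CommRingCat.ofHom (algebraMap R C)) = Spec.map (CommRingCat.ofHom (algebraMap R D))
    rw [← Spec.map_comp, ← CommRingCat.ofHom_comp]; exact congrArg (fun z => Spec.map (CommRingCat.ofHom z)) h.comp_algebraMap)

theorem hom_comp (h : C →ₐ[R] D) (k : D →ₐ[R] E) : hom (k.comp h) = hom k ≫ hom h := by
  apply Over.OverMorphism.ext
  show Spec.map _ = Spec.map _ ≫ Spec.map _
  rw [← Spec.map_comp]
  rfl

theorem hom_id : hom (AlgHom.id R C) = 𝟙 (T R C) := Over.OverMorphism.ext (Spec.map_id (CommRingCat.of C))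

theorem hom_injective : Function.Injective (hom : (C →ₐ[R] D) → _) := fun h k e =>
  AlgHom.coe_ringHom_injective (congrArg CommRingCat.Hom.hom (Spec.map_injective (congrArg CommaMorphism.left e)))

theorem exists_hom (m : T R D ⟶ T R C) : ∃ h : C →ₐ[R] D, hom h = m := by
  obtain ⟨k, hk⟩ : ∃ k, Spec.map k = m.left := ⟨Spec.preimage m.left, Spec.map_preimage _⟩
  have e : k.hom.comp (algebraMap R C) = algebraMap R D := by
    have : Spec.map k ≫ Spec.map (CommRingCat.ofHom (algebraMap R C)) =
        Spec.map (CommRingCat.ofHom (algebraMap R D)) := hk ▸ Over.w m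
    rw [← Spec.map_comp] at this
    exact congrArg CommRingCat.Hom.hom (Spec.map_injective this)
  exact ⟨{ k.hom with commutes' := RingHom.congr_fun e }, Over.OverMorphism.ext hk⟩

/-- Products of affine schemes. -/
def ten (C D : Type u) [CommRing C] [Algebra R C] [CommRing D] [Algebra R D] :
    T R (C ⊗[R] D) ⟶ T R C ⊗ T R D :=
  lift (hom Algebra.TensorProduct.includeLeft) (hom Algebra.TensorProduct.includeRight)

instance isIso_ten : IsIso (ten (R := R) C D) := by
  let φC : Spec (CommRingCat.of C) ⟶ Spec (CommRingCat.of R) := Spec.map (CommRingCat.ofHom (algebraMap R C))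
  let φD : Spec (CommRingCat.of D) ⟶ Spec (CommRingCat.of R) := Spec.map (CommRingCat.ofHom (algebraMap R D))
  let j : Spec (CommRingCat.of (C ⊗[R] D)) ⟶ pullback φC φD := (ten (R := R) C D).left
  have h1 : j ≫ pullback.fst φC φD = Spec.map (CommRingCat.ofHom Algebra.TensorProduct.includeLeftRingHom) :=
    congrArg CommaMorphism.left (lift_fst (hom (R := R) (C := C) (D := C ⊗[R] D) Algebra.TensorProduct.includeLeft)
      (hom (R := R) (C := D) (D := C ⊗[R] D) Algebra.TensorProduct.includeRight))
  have h2 : j ≫ pullback.snd φC φD =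
      Spec.map (CommRingCat.ofHom (Algebra.TensorProduct.includeRight : D →ₐ[R] C ⊗[R] D).toRingHom) :=
    congrArg CommaMorphism.left (lift_snd (hom (R := R) (C := C) (D := C ⊗[R] D) Algebra.TensorProduct.includeLeft)
      (hom (R := R) (C := D) (D := C ⊗[R] D) Algebra.TensorProduct.includeRight))
  have e : j = (pullbackSpecIso R C D).inv :=
    pullback.hom_ext (h1.trans (pullbackSpecIso_inv_fst R C D).symm) (h2.trans (pullbackSpecIso_inv_snd R C D).symm)
  haveI : IsIso j := e ▸ inferInstance
  exact @isIso_of_reflects_iso _ _ _ _ _ _ (ten (R := R) C D) (Over.forget _) ‹IsIso j› _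

/-- An affine scheme over the base is a spectrum. -/
theorem exists_alg (G : Over (Spec (CommRingCat.of R))) [IsAffine G.left] :
    ∃ (O : Type u) (_ : CommRing O) (_ : Algebra R O), Nonempty (T R O ≅ G) := by
  letI : Algebra R Γ(G.left, ⊤) := (fn (A := R) G.hom).toAlgebra
  refine ⟨Γ(G.left, ⊤), inferInstance, inferInstance, ⟨(Over.isoMk G.left.isoSpec ?_).symm⟩⟩
  show G.left.toSpecΓ ≫ Spec.map (CommRingCat.ofHom (fn (A := R) G.hom)) = G.hom
  exact fn_ext (fn_toSpecΓ _)

end Spec

section Glue

variable {R : Type u} [CommRing R] (R' : Type u) [CommRing R'] [Algebra R R'] (f : R)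
  (C : Type u) [CommRing C] [Algebra R C]

/-- the map to `R' ⊗ C` -/
abbrev j0 : C →ₐ[R] (R' ⊗[R] C) := (Algebra.TensorProduct.includeRight : C →ₐ[R] R' ⊗[R] C)

/-- the map to `C_f` -/
abbrev j1 : C →ₐ[R] (Localization.Away f ⊗[R] C) := Algebra.TensorProduct.includeRight

/-- from `R' ⊗ C` to the overlap -/
abbrev q0 : (R' ⊗[R] C) →ₐ[R] (R' ⊗[R] (Localization.Away f ⊗[R] C)) :=
  Algebra.TensorProduct.map (AlgHom.id R R') (Algebra.TensorProduct.includeRight : C →ₐ[R] Localization.Away f ⊗[R] C)

/-- from `C_f` to the overlap -/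
abbrev q1 : (Localization.Away f ⊗[R] C) →ₐ[R] (R' ⊗[R] (Localization.Away f ⊗[R] C)) := Algebra.TensorProduct.includeRight

theorem q0_j0 : (q0 R' f C).comp (j0 R' C) = (q1 R' f C).comp (j1 f C) := AlgHom.ext fun c => by simp

theorem isUnit_C1 : IsUnit (algebraMap R ((Localization.Away f ⊗[R] C)) f) := by
  rw [IsScalarTower.algebraMap_apply R (Localization.Away f) ((Localization.Away f ⊗[R] C))]
  exact (IsLocalization.Away.algebraMap_isUnit f).map _

variable {R'} {f} (hf : f ∈ nonZeroDivisors R) [Module.Flat R C]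

include hf in
theorem j1_injective : Function.Injective (j1 f C) := by
  have hi : Function.Injective (Algebra.linearMap R (Localization.Away f)) :=
    IsLocalization.injective (Localization.Away f) (Submonoid.powers_le.2 hf)
  have h := Module.Flat.rTensor_preserves_injective_linearMap (M := C) _ hi
  intro a b e
  have := @h ((1 : R) ⊗ₜ[R] a) ((1 : R) ⊗ₜ[R] b) (by simpa using e)
  simpa using congrArg (TensorProduct.lid R C) this

include hf in
/-- Maps into a flat algebra glue. -/
theorem exists_glue (hq : EtGlue.QuotPowBijective R R' f) [Module.Flat R R'] {D : Type u} [CommRing D] [Algebra R D]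
    (β₀ : D →ₐ[R] (R' ⊗[R] C)) (β₁ : D →ₐ[R] (Localization.Away f ⊗[R] C)) (he : (q0 R' f C).comp β₀ = (q1 R' f C).comp β₁) :
    ∃ β : D →ₐ[R] C, (j0 R' C).comp β = β₀ ∧ (j1 f C).comp β = β₁ := by
  have hinj := j1_injective C hf
  have hinj0 : Function.Injective (q0 R' f C) :=
    Module.Flat.lTensor_preserves_injective_linearMap (M := R') (j1 f C).toLinearMap hinj
  have hy : ∀ y : (Localization.Away f ⊗[R] C), ∃ (n : ℕ) (c : C), f ^ n • y = (1 : Localization.Away f) ⊗ₜ[R] c := by
    intro y
    induction y using TensorProduct.induction_on with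
    | zero => exact ⟨0, 0, by simp⟩
    | tmul a c =>
      obtain ⟨n, r, hr⟩ := IsLocalization.Away.surj f a
      refine ⟨n, r • c, ?_⟩
      rw [TensorProduct.smul_tmul', ← TensorProduct.smul_tmul, Algebra.smul_def, Algebra.smul_def, mul_one, map_pow,
        mul_comm, hr]
    | add y z hy hz =>
      obtain ⟨n, c, hc⟩ := hy
      obtain ⟨m, d, hd⟩ := hz
      refine ⟨n + m, f ^ m • c + f ^ n • d, ?_⟩
      rw [TensorProduct.tmul_add, TensorProduct.tmul_smul, TensorProduct.tmul_smul, ← hc, ← hd, smul_add,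
        smul_smul, smul_smul, ← pow_add, ← pow_add, Nat.add_comm m n]
  have hmem : ∀ d, ∃ c : C, j0 R' C c = β₀ d ∧ j1 f C c = β₁ d := by
    intro d
    obtain ⟨n, c, hc⟩ := hy (β₁ d)
    have e1 : (1 : R') ⊗ₜ[R] c = f ^ n • β₀ d := hinj0 (by
      rw [map_smul, show q0 R' f C (β₀ d) = q1 R' f C (β₁ d) from AlgHom.congr_fun he d, ← map_smul, hc]
      simp)
    obtain ⟨b, rfl⟩ := EtGlueLib.exists_eq_smul_of_tmul_eq hq e1
    have e2 : j1 f C b = β₁ d := by
      have hu : IsUnit (algebraMap R ((Localization.Away f ⊗[R] C)) (f ^ n)) := by rw [map_pow]; exact (isUnit_C1 f C).pow n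
      refine hu.mul_left_cancel ?_
      rw [← Algebra.smul_def, ← Algebra.smul_def, hc, ← map_smul]
      rfl
    refine ⟨b, hinj0 ?_, e2⟩
    rw [show q0 R' f C (j0 R' C b) = q1 R' f C (j1 f C b) from AlgHom.congr_fun (q0_j0 R' f C) b, e2]
    exact (AlgHom.congr_fun he d).symm
  choose β hβ0 hβ1 using hmem
  refine ⟨
    { toFun := β
      map_one' := hinj (by rw [hβ1, map_one, map_one])
      map_mul' := fun a b => hinj (by rw [map_mul, hβ1, hβ1, hβ1, map_mul])
      map_zero' := hinj (by rw [hβ1, map_zero, map_zero])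
      map_add' := fun a b => hinj (by rw [map_add, hβ1, hβ1, hβ1, map_add])
      commutes' := fun r => hinj (by rw [hβ1, AlgHom.commutes, AlgHom.commutes]) },
    AlgHom.ext hβ0, AlgHom.ext hβ1⟩

end Glue

end Groth.Agent.TwistGlue
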