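import Groth.Agent.TwistGlue.Points
import Groth.Agent.S10723
import Groth.Agent.S2005
import Groth.Agent.EtGlueLib.Glue
import Groth.Prelude.Def_NonAbH2

/-!
Twisting the trivial torsor under an affine group along a formal glueing pair `R → R'`, `f` by a point over `R'_f`.
-/

set_option autoImplicit false
set_option linter.style.haveILetI false
set_option linter.unusedSectionVars false
set_option synthInstance.maxHeartbeats 400000
set_option maxHeartbeats 800000

universe u

open CategoryTheory Limits MonoidalCategory CartesianMonoidalCategory AlgebraicGeometry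
open scoped TensorProduct MonObj

noncomputable section

namespace Groth.Agent.TwistGlue

variable {R : Type u} [CommRing R] {R' : Type u} [CommRing R'] [Algebra R R'] {f : R}

/-- Two maps from `R' ⊗ M` agree when they agree on the factors. -/
theorem ext_tensor {M N C : Type u} [CommRing M] [Algebra R M] [CommRing N] [Algebra R N] [CommRing C] [Algebra R C]
    {φ ψ : M ⊗[R] N →ₐ[R] C}
    (h₁ : φ.comp Algebra.TensorProduct.includeLeft = ψ.comp Algebra.TensorProduct.includeLeft)
    (h₂ : φ.comp Algebra.TensorProduct.includeRight = ψ.comp Algebra.TensorProduct.includeRight) : φ = ψ :=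
  Algebra.TensorProduct.ext h₁ h₂

variable {C D : Type u} [CommRing C] [Algebra R C] [CommRing D] [Algebra R D]

theorem lift_left {M N : Type u} [CommRing M] [Algebra R M] [CommRing N] [Algebra R N] (a : M →ₐ[R] C)
    (b : N →ₐ[R] C) : (Algebra.TensorProduct.lift a b fun _ _ => Commute.all _ _).comp
      Algebra.TensorProduct.includeLeft = a := AlgHom.ext fun x => by simp

theorem lift_right {M N : Type u} [CommRing M] [Algebra R M] [CommRing N] [Algebra R N] (a : M →ₐ[R] C)
    (b : N →ₐ[R] C) : (Algebra.TensorProduct.lift a b fun _ _ => Commute.all _ _).comp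
      Algebra.TensorProduct.includeRight = b := AlgHom.ext fun x => by simp

theorem isUnit_map (c₁ : Localization.Away f →ₐ[R] C) : IsUnit (algebraMap R C f) :=
  c₁.commutes f ▸ (IsLocalization.Away.algebraMap_isUnit f).map c₁

/-- the map from `R_f` -/
def locMap (h : IsUnit (algebraMap R C f)) : Localization.Away f →ₐ[R] C :=
  { IsLocalization.Away.lift f h with commutes' := fun r => IsLocalization.Away.lift_eq f h r }

theorem loc_unique (a b : Localization.Away f →ₐ[R] C) : a = b :=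
  AlgHom.coe_ringHom_injective (IsLocalization.ringHom_ext (Submonoid.powers f)
    (RingHom.ext fun r => (a.commutes r).trans (b.commutes r).symm))

/-- the overlap ring -/
abbrev L (R' : Type u) [CommRing R'] [Algebra R R'] (f : R) := Localization.Away (algebraMap R R' f)

/-- the map from the overlap ring -/
def lL (c : R' →ₐ[R] C) (h : IsUnit (algebraMap R C f)) : L R' f →ₐ[R] C :=
  { IsLocalization.Away.lift (algebraMap R R' f) (g := c.toRingHom)
      (show IsUnit (c (algebraMap R R' f)) by rwa [c.commutes]) with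
    commutes' := fun r => by
      show IsLocalization.Away.lift (algebraMap R R' f) _ (algebraMap R (L R' f) r) = _
      rw [IsScalarTower.algebraMap_apply R R' (L R' f), IsLocalization.Away.lift_eq]
      exact c.commutes r }

theorem lL_algebraMap (c : R' →ₐ[R] C) (h : IsUnit (algebraMap R C f)) (x : R') :
    lL c h (algebraMap R' (L R' f) x) = c x :=
  IsLocalization.Away.lift_eq (algebraMap R R' f) (g := c.toRingHom)
    (show IsUnit (c (algebraMap R R' f)) by rwa [c.commutes]) x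

theorem comp_lL (c : R' →ₐ[R] C) (h : IsUnit (algebraMap R C f)) (k : C →ₐ[R] D) (h' : IsUnit (algebraMap R D f)) :
    k.comp (lL c h) = lL (k.comp c) h' := by
  refine AlgHom.coe_ringHom_injective (IsLocalization.ringHom_ext (Submonoid.powers (algebraMap R R' f))
    (RingHom.ext fun x => ?_))
  show k (lL c h (algebraMap R' _ x)) = lL (k.comp c) h' (algebraMap R' _ x)
  rw [lL_algebraMap, lL_algebraMap]; rfl

section Group

variable (G : Over (Spec (CommRingCat.of R))) [GrpObj G] {O : Type u} [CommRing O] [Algebra R O] (eG : T R O ≅ G)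

/-- the point of an algebra map -/
def pt (h : O →ₐ[R] C) : T R C ⟶ G := hom h ≫ eG.hom

/-- the algebra map of a point -/
def rep (x : T R C ⟶ G) : O →ₐ[R] C := (exists_hom (x ≫ eG.inv)).choose

theorem pt_rep (x : T R C ⟶ G) : pt G eG (rep G eG x) = x := by
  rw [pt, rep, (exists_hom (x ≫ eG.inv)).choose_spec, Category.assoc, Iso.inv_hom_id, Category.comp_id]

theorem pt_injective {h k : O →ₐ[R] C} (e : pt G eG h = pt G eG k) : h = k :=
  hom_injective ((cancel_mono eG.hom).1 e)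

theorem pt_comp (k : C →ₐ[R] D) (h : O →ₐ[R] C) : pt G eG (k.comp h) = hom k ≫ pt G eG h := by
  rw [pt, pt, hom_comp, Category.assoc]

variable (g : T R (L R' f) ⟶ G)

/-- the twist at an algebra over the overlap -/
def tw (c : R' →ₐ[R] C) (h : IsUnit (algebraMap R C f)) : T R C ⟶ G := hom (lL c h) ≫ g

theorem comp_tw (c : R' →ₐ[R] C) (h : IsUnit (algebraMap R C f)) (k : C →ₐ[R] D) (h' : IsUnit (algebraMap R D f)) :
    hom k ≫ tw G g c h = tw G g (k.comp c) h' := by
  rw [tw, tw, ← Category.assoc, ← hom_comp, comp_lL]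

include eG in
/-- Two rings representing pairs of a map from `R'` inverting `f` and a point are identified by translating. -/
theorem exists_iso {P Q : Type u} [CommRing P] [Algebra R P] [CommRing Q] [Algebra R Q]
    (cP : R' →ₐ[R] P) (oP : O →ₐ[R] P) (hP : IsUnit (algebraMap R P f))
    (cQ : R' →ₐ[R] Q) (oQ : O →ₐ[R] Q) (hQ : IsUnit (algebraMap R Q f))
    (mkP : ∀ (c : R' →ₐ[R] Q) (o : O →ₐ[R] Q), ∃ φ : P →ₐ[R] Q, φ.comp cP = c ∧ φ.comp oP = o)
    (mkQ : ∀ (c : R' →ₐ[R] P) (o : O →ₐ[R] P), ∃ φ : Q →ₐ[R] P, φ.comp cQ = c ∧ φ.comp oQ = o)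
    (extP : ∀ φ ψ : P →ₐ[R] P, φ.comp cP = ψ.comp cP → φ.comp oP = ψ.comp oP → φ = ψ)
    (extQ : ∀ φ ψ : Q →ₐ[R] Q, φ.comp cQ = ψ.comp cQ → φ.comp oQ = ψ.comp oQ → φ = ψ) :
    ∃ e : P ≃ₐ[R] Q, e.toAlgHom.comp cP = cQ ∧
      ∀ (C : Type u) [CommRing C] [Algebra R C] (Θ : Q →ₐ[R] C) (h : IsUnit (algebraMap R C f)) (c : R' →ₐ[R] C)
        (b x : O →ₐ[R] C), Θ.comp cQ = c → Θ.comp oQ = b → pt G eG x = pt G eG b * tw G g c h →
        (Θ.comp e.toAlgHom).comp cP = c ∧ (Θ.comp e.toAlgHom).comp oP = x := by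
  obtain ⟨F, hFc, hFo⟩ := mkP cQ (rep G eG (pt G eG oQ * tw G g cQ hQ))
  obtain ⟨B, hBc, hBo⟩ := mkQ cP (rep G eG (pt G eG oP * (tw G g cP hP)⁻¹))
  have e1 : F.comp (B.comp oQ) = oQ := pt_injective G eG (by
    rw [hBo, pt_comp, pt_rep, MonObj.comp_mul, GrpObj.comp_inv, comp_tw G g cP hP F hQ, ← pt_comp, hFo, pt_rep, hFc,
      mul_inv_cancel_right])
  have e2 : B.comp (F.comp oP) = oP := pt_injective G eG (by
    rw [hFo, pt_comp, pt_rep, MonObj.comp_mul, comp_tw G g cQ hQ B hP, ← pt_comp, hBo, pt_rep, hBc,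
      inv_mul_cancel_right])
  have hBF : B.comp F = AlgHom.id R P := extP _ _
    (by rw [AlgHom.comp_assoc, hFc, hBc, AlgHom.id_comp]) (by rw [AlgHom.comp_assoc, e2, AlgHom.id_comp])
  have hFB : F.comp B = AlgHom.id R Q := extQ _ _
    (by rw [AlgHom.comp_assoc, hBc, hFc, AlgHom.id_comp]) (by rw [AlgHom.comp_assoc, e1, AlgHom.id_comp])
  refine ⟨AlgEquiv.ofAlgHom F B hFB hBF, hFc, fun C _ _ Θ h c b x hc hb hx => ?_⟩
  refine ⟨(congrArg Θ.comp hFc).trans hc, pt_injective G eG ?_⟩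
  show pt G eG (Θ.comp (F.comp oP)) = _
  rw [hFo, pt_comp, pt_rep, MonObj.comp_mul, comp_tw G g cQ hQ Θ h, ← pt_comp, hx, hb]
  subst hc
  rfl

omit [GrpObj G] in
theorem mk_loc (h : IsUnit (algebraMap R C f)) (a : R' ⊗[R] O →ₐ[R] C) :
    ∃ φ : Localization.Away (algebraMap R (R' ⊗[R] O) f) →ₐ[R] C,
      φ.comp (IsScalarTower.toAlgHom R (R' ⊗[R] O) _) = a := by
  have hu : IsUnit (a (algebraMap R (R' ⊗[R] O) f)) := by rwa [a.commutes]
  refine ⟨{ IsLocalization.Away.lift (algebraMap R (R' ⊗[R] O) f) (g := a.toRingHom) hu with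
    commutes' := fun r => ?_ }, AlgHom.ext fun z => ?_⟩
  · show IsLocalization.Away.lift (algebraMap R (R' ⊗[R] O) f) _ (algebraMap R _ r) = _
    rw [IsScalarTower.algebraMap_apply R (R' ⊗[R] O) (Localization.Away (algebraMap R (R' ⊗[R] O) f)),
      IsLocalization.Away.lift_eq]
    exact a.commutes r
  · exact IsLocalization.Away.lift_eq (algebraMap R (R' ⊗[R] O) f) (g := a.toRingHom) hu z

omit [GrpObj G] in
theorem ext_loc {φ ψ : Localization.Away (algebraMap R (R' ⊗[R] O) f) →ₐ[R] C}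
    (h : φ.comp (IsScalarTower.toAlgHom R (R' ⊗[R] O) _) = ψ.comp (IsScalarTower.toAlgHom R (R' ⊗[R] O) _)) : φ = ψ :=
  AlgHom.coe_ringHom_injective (IsLocalization.ringHom_ext (Submonoid.powers (algebraMap R (R' ⊗[R] O) f))
    (RingHom.ext fun z => AlgHom.congr_fun h z))

omit [GrpObj G] in
theorem mk_over (h : IsUnit (algebraMap R C f)) (c : R' →ₐ[R] C) (o : O →ₐ[R] C) :
    ∃ φ : R' ⊗[R] (Localization.Away f ⊗[R] O) →ₐ[R] C, φ.comp Algebra.TensorProduct.includeLeft = c ∧
      φ.comp (Algebra.TensorProduct.includeRight.comp Algebra.TensorProduct.includeRight) = o :=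
  ⟨Algebra.TensorProduct.lift c (Algebra.TensorProduct.lift (locMap h) o fun _ _ => Commute.all _ _)
    fun _ _ => Commute.all _ _, lift_left _ _, by rw [← AlgHom.comp_assoc, lift_right, lift_right]⟩

omit [GrpObj G] in
theorem ext_over {φ ψ : R' ⊗[R] (Localization.Away f ⊗[R] O) →ₐ[R] C}
    (h1 : φ.comp Algebra.TensorProduct.includeLeft = ψ.comp Algebra.TensorProduct.includeLeft)
    (h2 : φ.comp (Algebra.TensorProduct.includeRight.comp Algebra.TensorProduct.includeRight) =
      ψ.comp (Algebra.TensorProduct.includeRight.comp Algebra.TensorProduct.includeRight)) : φ = ψ :=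
  ext_tensor h1 (ext_tensor (loc_unique _ _) h2)

omit [GrpObj G] in
theorem mk_loc_pair (h : IsUnit (algebraMap R C f)) (c : R' →ₐ[R] C) (o : O →ₐ[R] C) :
    ∃ φ : Localization.Away (algebraMap R (R' ⊗[R] O) f) →ₐ[R] C,
      φ.comp ((IsScalarTower.toAlgHom R (R' ⊗[R] O) _).comp Algebra.TensorProduct.includeLeft) = c ∧
      φ.comp ((IsScalarTower.toAlgHom R (R' ⊗[R] O) _).comp Algebra.TensorProduct.includeRight) = o := by
  obtain ⟨φ, hφ⟩ := mk_loc h (Algebra.TensorProduct.lift c o fun _ _ => Commute.all _ _)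
  exact ⟨φ, by rw [← AlgHom.comp_assoc, hφ, lift_left], by rw [← AlgHom.comp_assoc, hφ, lift_right]⟩

include eG in
/-- The translation between the two trivialisations on the overlap. -/
theorem exists_phi :
    ∃ φ : Localization.Away (algebraMap R (R' ⊗[R] O) f) ≃ₐ[R'] R' ⊗[R] (Localization.Away f ⊗[R] O),
      ∀ (C : Type u) [CommRing C] [Algebra R C] (c : R' →ₐ[R] C) (h : IsUnit (algebraMap R C f))
        (b : O →ₐ[R] C) (a : R' ⊗[R] O →ₐ[R] C) (Θ : R' ⊗[R] (Localization.Away f ⊗[R] O) →ₐ[R] C),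
        a.comp Algebra.TensorProduct.includeLeft = c → Θ.comp Algebra.TensorProduct.includeLeft = c →
        Θ.comp (Algebra.TensorProduct.includeRight.comp Algebra.TensorProduct.includeRight) = b →
        pt G eG (a.comp Algebra.TensorProduct.includeRight) = pt G eG b * tw G g c h →
        ∀ z, Θ (φ (algebraMap (R' ⊗[R] O) _ z)) = a z := by
  have hP : IsUnit (algebraMap R (Localization.Away (algebraMap R (R' ⊗[R] O) f)) f) := by
    rw [IsScalarTower.algebraMap_apply R (R' ⊗[R] O) (Localization.Away (algebraMap R (R' ⊗[R] O) f))]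
    exact IsLocalization.Away.algebraMap_isUnit _
  obtain ⟨e, hec, heo⟩ := exists_iso G eG g
    ((IsScalarTower.toAlgHom R (R' ⊗[R] O) (Localization.Away (algebraMap R (R' ⊗[R] O) f))).comp
      (Algebra.TensorProduct.includeLeft : R' →ₐ[R] R' ⊗[R] O))
    ((IsScalarTower.toAlgHom R (R' ⊗[R] O) (Localization.Away (algebraMap R (R' ⊗[R] O) f))).comp
      (Algebra.TensorProduct.includeRight : O →ₐ[R] R' ⊗[R] O)) hP
    (Algebra.TensorProduct.includeLeft : R' →ₐ[R] R' ⊗[R] (Localization.Away f ⊗[R] O))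
    ((Algebra.TensorProduct.includeRight : Localization.Away f ⊗[R] O →ₐ[R] R' ⊗[R] (Localization.Away f ⊗[R] O)).comp
      (Algebra.TensorProduct.includeRight : O →ₐ[R] Localization.Away f ⊗[R] O))
    (isUnit_map ((q1 R' f O).comp (Algebra.TensorProduct.includeLeft : Localization.Away f →ₐ[R] _)))
    (fun c o => mk_loc_pair (C := R' ⊗[R] (Localization.Away f ⊗[R] O)) (isUnit_map ((q1 R' f O).comp
      (Algebra.TensorProduct.includeLeft : Localization.Away f →ₐ[R] _))) c o)
    (fun c o => mk_over hP c o)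
    (fun φ ψ h1 h2 => ext_loc (ext_tensor h1 h2))
    (fun φ ψ h1 h2 => ext_over (C := R' ⊗[R] (Localization.Away f ⊗[R] O)) h1 h2)
  refine ⟨{ e.toRingEquiv with commutes' := fun x => ?_ }, fun C _ _ c h b a Θ ha hΘ hb hpt z => ?_⟩
  · exact AlgHom.congr_fun hec x
  · show Θ (e (IsScalarTower.toAlgHom R (R' ⊗[R] O) _ z)) = a z
    obtain ⟨hA, hB⟩ := heo C Θ h c b _ hΘ hb hpt
    exact AlgHom.congr_fun (ext_tensor (φ := (Θ.comp e.toAlgHom).comp (IsScalarTower.toAlgHom R (R' ⊗[R] O) _))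
      (ψ := a) (hA.trans ha.symm) hB) z

variable {B : Type u} [CommRing B] [Algebra R B]
  (e₁ : Localization.Away (algebraMap R B f) ≃ₐ[R] Localization.Away f ⊗[R] O)
  (e' : R' ⊗[R] B ≃ₐ[R'] R' ⊗[R] O)

/-- the coordinate over `R'` -/
def aco (c : R' →ₐ[R] C) (β : B →ₐ[R] C) : T R C ⟶ G :=
  pt G eG ((Algebra.TensorProduct.lift c β fun _ _ => Commute.all _ _).comp
    ((e'.restrictScalars R).symm.toAlgHom.comp Algebra.TensorProduct.includeRight))

/-- the extension to `B_f` -/
def bLift (c₁ : Localization.Away f →ₐ[R] C) (β : B →ₐ[R] C) : Localization.Away (algebraMap R B f) →ₐ[R] C :=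
  { IsLocalization.Away.lift (algebraMap R B f) (g := β.toRingHom)
      (show IsUnit (β (algebraMap R B f)) by rw [β.commutes]; exact isUnit_map c₁) with
    commutes' := fun r => by
      show IsLocalization.Away.lift (algebraMap R B f) _ (algebraMap R _ r) = _
      rw [IsScalarTower.algebraMap_apply R B (Localization.Away (algebraMap R B f)), IsLocalization.Away.lift_eq]
      exact β.commutes r }

theorem bLift_algebraMap (c₁ : Localization.Away f →ₐ[R] C) (β : B →ₐ[R] C) (x : B) :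
    bLift c₁ β (algebraMap B _ x) = β x :=
  IsLocalization.Away.lift_eq (algebraMap R B f) (g := β.toRingHom)
    (show IsUnit (β (algebraMap R B f)) by rw [β.commutes]; exact isUnit_map c₁) x

/-- the coordinate over `R_f` -/
def bco (c₁ : Localization.Away f →ₐ[R] C) (β : B →ₐ[R] C) : T R C ⟶ G :=
  pt G eG ((bLift c₁ β).comp (e₁.symm.toAlgHom.comp Algebra.TensorProduct.includeRight))

theorem comp_aco (c : R' →ₐ[R] C) (β : B →ₐ[R] C) (k : C →ₐ[R] D) :
    hom k ≫ aco G eG e' c β = aco G eG e' (k.comp c) (k.comp β) := by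
  rw [aco, aco, ← pt_comp, ← AlgHom.comp_assoc]
  congr 2
  exact ext_tensor (by ext x; simp) (by ext x; simp)

theorem comp_bco (c₁ : Localization.Away f →ₐ[R] C) (β : B →ₐ[R] C) (k : C →ₐ[R] D) :
    hom k ≫ bco G eG e₁ c₁ β = bco G eG e₁ (k.comp c₁) (k.comp β) := by
  rw [bco, bco, ← pt_comp, ← AlgHom.comp_assoc]
  congr 2
  refine AlgHom.coe_ringHom_injective (IsLocalization.ringHom_ext (Submonoid.powers (algebraMap R B f))
    (RingHom.ext fun x => ?_))
  show k (bLift c₁ β (algebraMap B _ x)) = bLift (k.comp c₁) (k.comp β) (algebraMap B _ x)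
  rw [bLift_algebraMap, bLift_algebraMap]
  rfl

theorem aco_injective (c : R' →ₐ[R] C) {β β' : B →ₐ[R] C} (h : aco G eG e' c β = aco G eG e' c β') : β = β' := by
  have h1 := pt_injective G eG h
  set l := Algebra.TensorProduct.lift c β fun _ _ => Commute.all _ _
  set l' := Algebra.TensorProduct.lift c β' fun _ _ => Commute.all _ _
  have : l.comp (e'.restrictScalars R).symm.toAlgHom = l'.comp (e'.restrictScalars R).symm.toAlgHom := by
    refine ext_tensor (AlgHom.ext fun x => ?_) (by rw [AlgHom.comp_assoc, AlgHom.comp_assoc]; exact h1)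
    show l (e'.symm (algebraMap R' (R' ⊗[R] O) x)) = l' (e'.symm (algebraMap R' (R' ⊗[R] O) x))
    rw [AlgEquiv.commutes]
    show l (x ⊗ₜ[R] 1) = l' (x ⊗ₜ[R] 1)
    simp [l, l']
  refine AlgHom.ext fun x => ?_
  have := AlgHom.congr_fun this (e' (1 ⊗ₜ x))
  simpa [l, l'] using this

theorem bco_injective (c₁ : Localization.Away f →ₐ[R] C) {β β' : B →ₐ[R] C}
    (h : bco G eG e₁ c₁ β = bco G eG e₁ c₁ β') : β = β' := by
  have h1 := pt_injective G eG h
  have : (bLift c₁ β).comp e₁.symm.toAlgHom = (bLift c₁ β').comp e₁.symm.toAlgHom :=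
    ext_tensor (loc_unique _ _) (by rw [AlgHom.comp_assoc, AlgHom.comp_assoc]; exact h1)
  refine AlgHom.ext fun x => ?_
  have := AlgHom.congr_fun this (e₁ (algebraMap B _ x))
  simp only [AlgHom.comp_apply, AlgEquiv.coe_toAlgHom, AlgEquiv.symm_apply_apply] at this
  rwa [bLift_algebraMap, bLift_algebraMap] at this

theorem exists_aco (c : R' →ₐ[R] C) (x : T R C ⟶ G) : ∃ β : B →ₐ[R] C, aco G eG e' c β = x := by
  let l : R' ⊗[R] O →ₐ[R] C := Algebra.TensorProduct.lift c (rep G eG x) fun _ _ => Commute.all _ _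
  refine ⟨l.comp ((e'.restrictScalars R).toAlgHom.comp Algebra.TensorProduct.includeRight), ?_⟩
  have : Algebra.TensorProduct.lift c (l.comp ((e'.restrictScalars R).toAlgHom.comp Algebra.TensorProduct.includeRight))
      (fun _ _ => Commute.all _ _) = l.comp (e'.restrictScalars R).toAlgHom := by
    refine ext_tensor (AlgHom.ext fun r => ?_) (lift_right _ _)
    rw [lift_left]
    show c r = l (e' (algebraMap R' (R' ⊗[R] B) r))
    rw [AlgEquiv.commutes]
    show c r = l (r ⊗ₜ[R] 1)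
    simp [l]
  rw [aco, this]
  conv_rhs => rw [← pt_rep G eG x]
  congr 1
  refine AlgHom.ext fun o => ?_
  show l (e' (e'.symm ((1 : R') ⊗ₜ[R] o))) = _
  rw [AlgEquiv.apply_symm_apply]
  simp [l]

theorem exists_bco (c₁ : Localization.Away f →ₐ[R] C) (x : T R C ⟶ G) : ∃ β : B →ₐ[R] C, bco G eG e₁ c₁ β = x := by
  let l : Localization.Away f ⊗[R] O →ₐ[R] C := Algebra.TensorProduct.lift c₁ (rep G eG x) fun _ _ => Commute.all _ _
  let β : B →ₐ[R] C := l.comp (e₁.toAlgHom.comp (IsScalarTower.toAlgHom R B _))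
  refine ⟨β, ?_⟩
  have : bLift c₁ β = l.comp e₁.toAlgHom :=
    AlgHom.coe_ringHom_injective (IsLocalization.ringHom_ext (Submonoid.powers (algebraMap R B f))
      (RingHom.ext fun z => bLift_algebraMap c₁ β z))
  rw [bco, this]
  conv_rhs => rw [← pt_rep G eG x]
  congr 1
  refine AlgHom.ext fun o => ?_
  show l (e₁ (e₁.symm ((1 : Localization.Away f) ⊗ₜ[R] o))) = _
  rw [AlgEquiv.apply_symm_apply]
  simp [l]

/-- the compatibility of the two coordinates -/
def Compat : Prop :=
  ∀ (C : Type u) [CommRing C] [Algebra R C] (c : R' →ₐ[R] C) (c₁ : Localization.Away f →ₐ[R] C) (β : B →ₐ[R] C),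
    aco G eG e' c β = bco G eG e₁ c₁ β * tw G g c (isUnit_map c₁)

include eG in
/-- The glued algebra. -/
theorem exists_twist (hRR : EtGlue.IsGlueingPair R R' f) :
    ∃ (B : Type u) (_ : CommRing B) (_ : Algebra R B) (_ : EtGlue.IsGlueable R R' f B)
      (e₁ : Localization.Away (algebraMap R B f) ≃ₐ[R] Localization.Away f ⊗[R] O)
      (e' : R' ⊗[R] B ≃ₐ[R'] R' ⊗[R] O), Compat G eG g e₁ e' := by
  obtain ⟨φ, hφ⟩ := exists_phi G eG g
  obtain ⟨B, iB, aB, hB, e₁, e', he⟩ := EtGlueLib.exists_algebra hRR (Localization.Away f ⊗[R] O) (isUnit_C1 f O)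
    (R' ⊗[R] O) φ
  refine ⟨B, iB, aB, hB, e₁, e', fun C _ _ c c₁ β => ?_⟩
  let lb : Localization.Away f ⊗[R] O →ₐ[R] C := (bLift c₁ β).comp e₁.symm.toAlgHom
  let Θ : R' ⊗[R] (Localization.Away f ⊗[R] O) →ₐ[R] C := Algebra.TensorProduct.lift c lb fun _ _ => Commute.all _ _
  let x := pt G eG (lb.comp Algebra.TensorProduct.includeRight) * tw G g c (isUnit_map c₁)
  let a : R' ⊗[R] O →ₐ[R] C := Algebra.TensorProduct.lift c (rep G eG x) fun _ _ => Commute.all _ _
  have ha : ∀ z, Θ (φ (algebraMap (R' ⊗[R] O) _ z)) = a z := hφ C c (isUnit_map c₁) _ a Θ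
    (lift_left _ _) (lift_left _ _)
    (by rw [← AlgHom.comp_assoc, lift_right])
    (by rw [lift_right, pt_rep])
  have hb : bco G eG e₁ c₁ β = pt G eG (lb.comp Algebra.TensorProduct.includeRight) := rfl
  rw [hb, show pt G eG (lb.comp Algebra.TensorProduct.includeRight) * tw G g c (isUnit_map c₁) = x from rfl,
    ← pt_rep G eG x, aco]
  congr 1
  have hl : Algebra.TensorProduct.lift c β (fun _ _ => Commute.all _ _) = a.comp (e'.restrictScalars R).toAlgHom := by
    refine ext_tensor (AlgHom.ext fun r => ?_) (AlgHom.ext fun z => ?_)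
    · rw [lift_left]
      show c r = a (e' (algebraMap R' (R' ⊗[R] B) r))
      rw [AlgEquiv.commutes]
      show c r = a (r ⊗ₜ[R] 1)
      simp [a]
    · rw [lift_right]
      show β z = a (e' ((1 : R') ⊗ₜ[R] z))
      rw [← ha, he]
      show β z = Algebra.TensorProduct.lift c lb _ ((1 : R') ⊗ₜ[R] e₁ (algebraMap B _ z))
      rw [Algebra.TensorProduct.lift_tmul, map_one, _root_.one_mul]
      show β z = bLift c₁ β (e₁.symm (e₁ (algebraMap B _ z)))
      rw [AlgEquiv.symm_apply_apply]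
      exact (bLift_algebraMap c₁ β z).symm
  rw [hl]
  refine AlgHom.ext fun o => ?_
  show a (e' (e'.symm ((1 : R') ⊗ₜ[R] o))) = _
  rw [AlgEquiv.apply_symm_apply]
  simp [a]

section Torsor

variable {e₁ e'} (hc : Compat G eG g e₁ e') (hf : f ∈ nonZeroDivisors R) [Module.Flat R R']
  (hq : EtGlue.QuotPowBijective R R' f) [Module.Flat R B] [Module.Flat R O]

/-- first coordinate of a point with values in a flat algebra -/
def cA (β : B →ₐ[R] C) : T R (R' ⊗[R] C) ⟶ G :=
  aco G eG e' Algebra.TensorProduct.includeLeft ((j0 R' C).comp β)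

/-- second coordinate -/
def cB (β : B →ₐ[R] C) : T R (Localization.Away f ⊗[R] C) ⟶ G :=
  bco G eG e₁ Algebra.TensorProduct.includeLeft ((j1 f C).comp β)

/-- the twist on the overlap -/
def gC (C : Type u) [CommRing C] [Algebra R C] : T R (R' ⊗[R] (Localization.Away f ⊗[R] C)) ⟶ G :=
  tw G g Algebra.TensorProduct.includeLeft (isUnit_map ((q1 R' f C).comp Algebra.TensorProduct.includeLeft))

include hc in
theorem compat_coord (β : B →ₐ[R] C) :
    hom (q0 R' f C) ≫ cA G eG (e' := e') β = hom (q1 R' f C) ≫ cB G eG (e₁ := e₁) β * gC G g C := by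
  rw [cA, cB, comp_aco, comp_bco, gC, ← AlgHom.comp_assoc, ← AlgHom.comp_assoc, q0_j0]
  rw [show (q0 R' f C).comp Algebra.TensorProduct.includeLeft = Algebra.TensorProduct.includeLeft from
    AlgHom.ext fun x => by simp]
  exact hc _ _ _ _

include hc hf hq in
theorem exists_point [Module.Flat R C] (x₀ : T R (R' ⊗[R] C) ⟶ G) (x₁ : T R (Localization.Away f ⊗[R] C) ⟶ G)
    (hx : hom (q0 R' f C) ≫ x₀ = hom (q1 R' f C) ≫ x₁ * gC G g C) :
    ∃ β : B →ₐ[R] C, cA G eG (e' := e') β = x₀ ∧ cB G eG (e₁ := e₁) β = x₁ := by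
  obtain ⟨β₀, hβ₀⟩ := exists_aco G eG e' (C := R' ⊗[R] C) Algebra.TensorProduct.includeLeft x₀
  obtain ⟨β₁, hβ₁⟩ := exists_bco G eG e₁ (C := Localization.Away f ⊗[R] C) Algebra.TensorProduct.includeLeft x₁
  have he : (q0 R' f C).comp β₀ = (q1 R' f C).comp β₁ := by
    have hl : (q0 R' f C).comp Algebra.TensorProduct.includeLeft = Algebra.TensorProduct.includeLeft :=
      AlgHom.ext fun x => by simp
    refine aco_injective (C := R' ⊗[R] (Localization.Away f ⊗[R] C)) G eG e' Algebra.TensorProduct.includeLeft ?_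
    conv_lhs => rw [← hl, ← comp_aco, hβ₀, hx, ← hβ₁, comp_bco, gC]
    exact (hc _ _ _ _).symm
  obtain ⟨β, h0, h1⟩ := exists_glue C hf hq β₀ β₁ he
  exact ⟨β, by rw [cA, h0, hβ₀], by rw [cB, h1, hβ₁]⟩

include hf in
theorem cB_injective [Module.Flat R C] {β β' : B →ₐ[R] C} (h : cB G eG (e₁ := e₁) β = cB G eG (e₁ := e₁) β') :
    β = β' :=
  AlgHom.ext fun x => j1_injective C hf (AlgHom.congr_fun (bco_injective G eG e₁ _ h) x)

include eG hf hq in
/-- Points of the group glue. -/
theorem exists_point_group [Module.Flat R C] (x₀ : T R (R' ⊗[R] C) ⟶ G) (x₁ : T R (Localization.Away f ⊗[R] C) ⟶ G)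
    (hx : hom (C := R' ⊗[R] C) (D := R' ⊗[R] (Localization.Away f ⊗[R] C)) (q0 R' f C) ≫ x₀ =
      hom (C := Localization.Away f ⊗[R] C) (D := R' ⊗[R] (Localization.Away f ⊗[R] C)) (q1 R' f C) ≫ x₁) :
    ∃ h : T R C ⟶ G, hom (j0 R' C) ≫ h = x₀ ∧ hom (j1 f C) ≫ h = x₁ := by
  have he : (q0 R' f C).comp (rep G eG x₀) = (q1 R' f C).comp (rep G eG x₁) := by
    refine pt_injective (C := R' ⊗[R] (Localization.Away f ⊗[R] C)) G eG ?_
    rw [pt_comp, pt_comp, pt_rep, pt_rep, hx]
  obtain ⟨β, h0, h1⟩ := exists_glue C hf hq (rep G eG x₀) (rep G eG x₁) he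
  exact ⟨pt G eG β, by rw [← pt_comp, h0, pt_rep], by rw [← pt_comp, h1, pt_rep]⟩

include eG hf in
theorem point_group_ext [Module.Flat R C] {h h' : T R C ⟶ G} (e : hom (j1 f C) ≫ h = hom (j1 f C) ≫ h') : h = h' := by
  rw [← pt_rep G eG h, ← pt_rep G eG h', ← pt_comp, ← pt_comp] at e
  have := pt_injective G eG e
  rw [← pt_rep G eG h, ← pt_rep G eG h',
    show rep G eG h = rep G eG h' from AlgHom.ext fun x => j1_injective C hf (AlgHom.congr_fun this x)]

/-- The universal point of the twisted scheme restricted along a map. -/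
theorem cB_comp (k : C →ₐ[R] D) (β : B →ₐ[R] C) :
    cB G eG (e₁ := e₁) (k.comp β) =
      hom (Algebra.TensorProduct.map (AlgHom.id R (Localization.Away f)) k) ≫ cB G eG (e₁ := e₁) β := by
  rw [cB, cB, comp_bco, ← AlgHom.comp_assoc, ← AlgHom.comp_assoc]
  congr 2 <;> exact AlgHom.ext fun x => by simp

include hc hf hq in
/-- The action on the twisted scheme. -/
theorem exists_action :
    ∃ a : AlgGrp.Action G (T R B), ∀ (C : Type u) [CommRing C] [Algebra R C] [Module.Flat R C]
      (h : T R C ⟶ G) (β : B →ₐ[R] C), ∃ β' : B →ₐ[R] C, lift h (hom β) ≫ a.act = hom β' ∧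
        cB G eG (e₁ := e₁) β' = (hom (j1 f C) ≫ h) * cB G eG (e₁ := e₁) β := by
  let lO : O →ₐ[R] O ⊗[R] B := Algebra.TensorProduct.includeLeft
  let rB : B →ₐ[R] O ⊗[R] B := Algebra.TensorProduct.includeRight
  obtain ⟨ρ, -, hρ⟩ := exists_point G eG g hc hf hq (C := O ⊗[R] B)
    ((hom (j0 R' _) ≫ pt G eG lO) * cA G eG (e' := e') rB)
    ((hom (j1 f _) ≫ pt G eG lO) * cB G eG (e₁ := e₁) rB) (by
      rw [MonObj.comp_mul, MonObj.comp_mul, compat_coord G eG g hc, ← Category.assoc, ← Category.assoc,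
        ← hom_comp, ← hom_comp, q0_j0, _root_.mul_assoc])
  let act : G ⊗ T R B ⟶ T R B := (eG.inv ▷ T R B) ≫ inv (ten (R := R) O B) ≫ hom ρ
  have key : ∀ (C : Type u) [CommRing C] [Algebra R C] [Module.Flat R C]
      (h : T R C ⟶ G) (β : B →ₐ[R] C), ∃ β' : B →ₐ[R] C, lift h (hom β) ≫ act = hom β' ∧
        cB G eG (e₁ := e₁) β' = (hom (j1 f C) ≫ h) * cB G eG (e₁ := e₁) β := by
    intro C _ _ _ h β
    let k : O ⊗[R] B →ₐ[R] C := Algebra.TensorProduct.lift (rep G eG h) β fun _ _ => Commute.all _ _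
    have hk : lift h (hom β) ≫ (eG.inv ▷ T R B) ≫ inv (ten (R := R) O B) = hom k := by
      rw [← Category.assoc, IsIso.comp_inv_eq, lift_whiskerRight]
      apply CartesianMonoidalCategory.hom_ext
      · rw [lift_fst, Category.assoc, ten, lift_fst, ← hom_comp, lift_left]
        rw [← cancel_mono eG.hom, Category.assoc, Iso.inv_hom_id, Category.comp_id]
        exact (pt_rep G eG h).symm
      · rw [lift_snd, Category.assoc, ten, lift_snd, ← hom_comp, lift_right]
    refine ⟨k.comp ρ, by rw [hom_comp, ← hk]; simp only [act, Category.assoc], ?_⟩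
    rw [cB_comp, hρ, MonObj.comp_mul, ← cB_comp, lift_right, ← Category.assoc,
      ← hom_comp, show (Algebra.TensorProduct.map (AlgHom.id R (Localization.Away f)) k).comp (j1 f _) =
        (j1 f C).comp k from AlgHom.ext fun x => by simp, ← pt_comp, AlgHom.comp_assoc,
      lift_left, pt_comp, pt_rep]
  refine ⟨⟨act, ?_, ?_⟩, key⟩
  · let jj := lift (toUnit (T R B)) (𝟙 (T R B))
    haveI : IsIso jj := ⟨snd _ _, lift_snd _ _, CartesianMonoidalCategory.hom_ext _ _ (toUnit_unique _ _) (by simp [jj])⟩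
    rw [← cancel_epi jj]
    obtain ⟨β', h1, h2⟩ := key B 1 (AlgHom.id R B)
    rw [show jj ≫ (η[G] ▷ T R B) ≫ act = hom β' by
      rw [← h1, ← Category.assoc, lift_whiskerRight, hom_id, Hom.one_def]]
    rw [MonObj.comp_one, _root_.one_mul] at h2
    rw [cB_injective G eG hf h2, hom_id, leftUnitor_hom, lift_snd]
  · let jj := ten (R := R) (O ⊗[R] O) B ≫ ((ten (R := R) O O ≫ (eG.hom ⊗ₘ eG.hom)) ▷ T R B)
    rw [← cancel_epi jj]
    set C := (O ⊗[R] O) ⊗[R] B
    let h₁ : T R C ⟶ G := pt G eG ((Algebra.TensorProduct.includeLeft : O ⊗[R] O →ₐ[R] C).comp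
      (Algebra.TensorProduct.includeLeft : O →ₐ[R] O ⊗[R] O))
    let h₂ : T R C ⟶ G := pt G eG ((Algebra.TensorProduct.includeLeft : O ⊗[R] O →ₐ[R] C).comp
      (Algebra.TensorProduct.includeRight : O →ₐ[R] O ⊗[R] O))
    let β : B →ₐ[R] C := Algebra.TensorProduct.includeRight
    have hjj : jj = lift (lift h₁ h₂) (hom β) := by
      apply CartesianMonoidalCategory.hom_ext
      · rw [lift_fst]
        apply CartesianMonoidalCategory.hom_ext <;>
          simp [jj, h₁, h₂, ten, pt, hom_comp]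
      · simp [jj, β, ten]
    obtain ⟨β', h1, h2⟩ := key C (h₁ * h₂) β
    obtain ⟨β₂, k1, k2⟩ := key C h₂ β
    obtain ⟨β₁₂, l1, l2⟩ := key C h₁ β₂
    have lhs : jj ≫ (μ[G] ▷ T R B) ≫ act = hom β' := by
      rw [← h1, hjj, ← Category.assoc, lift_whiskerRight, Hom.mul_def]
    have rhs : jj ≫ (α_ G G (T R B)).hom ≫ (G ◁ act) ≫ act = hom β₁₂ := by
      rw [← l1, ← k1, hjj, ← Category.assoc, lift_lift_associator_hom, ← Category.assoc, lift_whiskerLeft]
    rw [lhs, rhs]
    congr 1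
    refine cB_injective G eG (e₁ := e₁) hf ?_
    rw [h2, l2, k2, MonObj.comp_mul, _root_.mul_assoc]

include hc hf hq in
/-- The coordinate over `R_f` determines the other one. -/
theorem cA_of_cB [Module.Flat R C] (h : T R C ⟶ G) (β β' : B →ₐ[R] C)
    (e : cB G eG (e₁ := e₁) β' = (hom (j1 f C) ≫ h) * cB G eG (e₁ := e₁) β) :
    cA G eG (e' := e') β' = (hom (j0 R' C) ≫ h) * cA G eG (e' := e') β := by
  obtain ⟨β'', h0, h1⟩ := exists_point G eG g hc hf hq (C := C)
    ((hom (j0 R' C) ≫ h) * cA G eG (e' := e') β) ((hom (j1 f C) ≫ h) * cB G eG (e₁ := e₁) β) (by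
      rw [MonObj.comp_mul, MonObj.comp_mul, compat_coord G eG g hc, ← Category.assoc, ← Category.assoc,
        ← hom_comp, ← hom_comp, q0_j0, _root_.mul_assoc])
  rw [← h0, cB_injective G eG (e₁ := e₁) hf (h1.trans e.symm)]

include hc hf hq in
/-- The twisted scheme is a pseudo-torsor. -/
theorem isPseudoTorsor_action (a : AlgGrp.Action G (T R B))
    (ha : ∀ (C : Type u) [CommRing C] [Algebra R C] [Module.Flat R C] (h : T R C ⟶ G) (β : B →ₐ[R] C),
      ∃ β' : B →ₐ[R] C, lift h (hom β) ≫ a.act = hom β' ∧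
        cB G eG (e₁ := e₁) β' = (hom (j1 f C) ≫ h) * cB G eG (e₁ := e₁) β)
    (haA : ∀ (C : Type u) [CommRing C] [Algebra R C] [Module.Flat R C] (h : T R C ⟶ G) (β β' : B →ₐ[R] C),
      cB G eG (e₁ := e₁) β' = (hom (j1 f C) ≫ h) * cB G eG (e₁ := e₁) β →
        cA G eG (e' := e') β' = (hom (j0 R' C) ≫ h) * cA G eG (e' := e') β) :
    NonAbH1.IsPseudoTorsorSch a := by
  let β₁ : B →ₐ[R] B ⊗[R] B := Algebra.TensorProduct.includeLeft
  let β₂ : B →ₐ[R] B ⊗[R] B := Algebra.TensorProduct.includeRight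
  obtain ⟨h, -, hh⟩ := exists_point_group G eG hf hq (C := B ⊗[R] B)
    (cA G eG (e' := e') β₁ * (cA G eG (e' := e') β₂)⁻¹) (cB G eG (e₁ := e₁) β₁ * (cB G eG (e₁ := e₁) β₂)⁻¹) (by
      rw [MonObj.comp_mul, MonObj.comp_mul, GrpObj.comp_inv, GrpObj.comp_inv, compat_coord G eG g hc,
        compat_coord G eG g hc, mul_inv_rev, _root_.mul_assoc, mul_inv_cancel_left])
  let σ : T R B ⊗ T R B ⟶ G ⊗ T R B := inv (ten (R := R) B B) ≫ lift h (hom β₂)
  refine ⟨σ, ?_, ?_⟩
  · let jj := ten (R := R) O B ≫ (eG.hom ▷ T R B)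
    rw [← cancel_epi jj, Category.comp_id]
    let h₁ : T R (O ⊗[R] B) ⟶ G := pt G eG (Algebra.TensorProduct.includeLeft)
    let β : B →ₐ[R] O ⊗[R] B := Algebra.TensorProduct.includeRight
    have hjj : jj = lift h₁ (hom β) := by
      apply CartesianMonoidalCategory.hom_ext <;> simp [jj, h₁, β, ten, pt]
    obtain ⟨β', k1, k2⟩ := ha _ h₁ β
    let m : B ⊗[R] B →ₐ[R] O ⊗[R] B := Algebra.TensorProduct.lift β' β fun _ _ => Commute.all _ _
    have hm : jj ≫ lift a.act (snd G (T R B)) = hom m ≫ ten (R := R) B B := by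
      rw [hjj, comp_lift, lift_snd, k1, ten, comp_lift, ← hom_comp, ← hom_comp,
        lift_left, lift_right]
    rw [← Category.assoc, hm]
    simp only [σ, Category.assoc, IsIso.hom_inv_id_assoc]
    rw [hjj, comp_lift, ← hom_comp, lift_right]
    congr 1
    refine point_group_ext G eG hf ?_
    rw [← Category.assoc, ← hom_comp, show (j1 f (O ⊗[R] B)).comp m =
      (Algebra.TensorProduct.map (AlgHom.id R (Localization.Away f)) m).comp (j1 f _) from
        AlgHom.ext fun x => by simp, hom_comp, Category.assoc, hh, MonObj.comp_mul, GrpObj.comp_inv,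
      ← cB_comp, ← cB_comp, lift_left, lift_right,
      k2, mul_inv_cancel_right]
  · rw [← cancel_epi (ten (R := R) B B), Category.comp_id]
    simp only [σ, IsIso.hom_inv_id_assoc, Category.assoc]
    obtain ⟨β', k1, k2⟩ := ha _ h β₂
    rw [comp_lift, lift_snd, k1, ten]
    congr 2
    refine cB_injective G eG (e₁ := e₁) hf ?_
    rw [k2, hh, inv_mul_cancel_right]

end Torsor

end Group

end Groth.Agent.TwistGlue
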